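import Mathlib

/-!
# Quadratic orders over `k⟦t⟧`
-/

set_option autoImplicit false
set_option linter.style.haveILetI false

universe u v

namespace Groth.Agent.CrimpDouble

open Polynomial

/-- The discriminant of a quadratic algebra. -/
theorem discr_pair {R A : Type*} [CommRing R] [CommRing A] [Algebra R A] (b : Module.Basis (Fin 2) R A)
    (h0 : b 0 = 1) (P Q : R) (h : b 1 * b 1 = P • (1 : A) + Q • b 1) : Algebra.discr R ⇑b = Q ^ 2 + 4 * P := by
  classical
  have hm1 : Algebra.leftMulMatrix b (b 1) = !![0, P; 1, Q] := by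
    ext i j
    rw [Algebra.leftMulMatrix_eq_repr_mul]
    fin_cases j
    · simp only [Fin.zero_eta, h0, mul_one]
      fin_cases i <;> simp [← h0]
    · simp only [Fin.mk_one, h, ← h0, map_add, map_smul, b.repr_self]
      fin_cases i <;> simp
  have htr : ∀ x : A, Algebra.trace R A x = (Algebra.leftMulMatrix b x).trace :=
    fun x => Algebra.trace_eq_matrix_trace b x
  have t1 : Algebra.trace R A 1 = 2 := by
    rw [htr, map_one, Matrix.trace_one]; simp
  have tu : Algebra.trace R A (b 1) = Q := by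
    rw [htr, hm1, Matrix.trace_fin_two_of]; simp
  have tuu : Algebra.trace R A (b 1 * b 1) = P * 2 + Q * Q := by
    rw [h, map_add, map_smul, map_smul, t1, tu]; simp
  rw [Algebra.discr_def, Matrix.det_fin_two]
  simp only [Algebra.traceMatrix_apply, Algebra.traceForm_apply, h0, one_mul, mul_one, t1, tu, tuu]
  ring

/-- Changing the basis multiplies the discriminant by a unit. -/
theorem span_discr_eq {R A : Type*} [CommRing R] [CommRing A] [Algebra R A] (b b' : Module.Basis (Fin 2) R A) :
    Ideal.span {Algebra.discr R ⇑b} = Ideal.span {Algebra.discr R ⇑b'} := by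
  have h : ∀ b b' : Module.Basis (Fin 2) R A, Ideal.span {Algebra.discr R ⇑b} ≤ Ideal.span {Algebra.discr R ⇑b'} := by
    intro b b'
    rw [Ideal.span_singleton_le_span_singleton, ← b'.toMatrix_map_vecMul b, Algebra.discr_of_matrix_vecMul]
    exact dvd_mul_left _ _
  exact le_antisymm (h b b') (h b' b)

variable {k : Type u} [Field k] {St : Type v} [CommRing St] [Algebra (PowerSeries k) St]

local notation "R" => PowerSeries k

variable (bt : Module.Basis (Fin 2) (PowerSeries k) St) (hbt : bt 0 = 1) (S : Subalgebra (PowerSeries k) St)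

theorem one_sup_pow_smul_eq (hbt : bt 0 = 1) (n : ℕ) :
    Submodule.span R {(1 : St)} ⊔ Ideal.span {(PowerSeries.X : R) ^ n} • (⊤ : Submodule R St) =
      Submodule.span R {(1 : St), (PowerSeries.X : R) ^ n • bt 1} := by
  rw [Submodule.span_insert (1 : St) {(PowerSeries.X : R) ^ n • bt 1}]
  refine le_antisymm (sup_le le_sup_left (Submodule.smul_le.mpr fun a ha z _ => ?_))
    (sup_le le_sup_left (Submodule.span_le.mpr ?_))
  · obtain ⟨c, rfl⟩ := Ideal.mem_span_singleton'.mp ha
    rw [← bt.sum_repr z, Fin.sum_univ_two, hbt, smul_add, smul_smul, smul_smul]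
    refine Submodule.add_mem_sup (Submodule.smul_mem _ _ (Submodule.mem_span_singleton_self _)) ?_
    refine Submodule.mem_span_singleton.mpr ⟨c * bt.repr z 1, ?_⟩
    rw [smul_smul]
    congr 1
    ring
  · rintro _ rfl
    exact Submodule.mem_sup_right (Submodule.smul_mem_smul (Ideal.mem_span_singleton_self _) Submodule.mem_top)

/-- The standard basis of `R·1 + t^n St`. -/
theorem exists_basis (hbt : bt 0 = 1) (n : ℕ)
    (hS : Subalgebra.toSubmodule S = Submodule.span R {(1 : St)} ⊔ Ideal.span {(PowerSeries.X : R) ^ n} • (⊤ : Submodule R St)) :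
    ∃ b : Module.Basis (Fin 2) R S, b 0 = 1 ∧ (b 1 : St) = (PowerSeries.X : R) ^ n • bt 1 := by
  rw [one_sup_pow_smul_eq bt hbt] at hS
  have h1 : (PowerSeries.X : R) ^ n • bt 1 ∈ S := hS.ge (Submodule.subset_span (Or.inr rfl))
  let w : Fin 2 → S := ![1, ⟨_, h1⟩]
  have hli : LinearIndependent R w := by
    rw [Fintype.linearIndependent_iff]
    intro c hc
    have hc' := congrArg (fun s : S => bt.repr (s : St)) hc
    simp only [Fin.sum_univ_two, w, Matrix.cons_val_zero, Matrix.cons_val_one, AddMemClass.coe_add,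
      SetLike.val_smul, OneMemClass.coe_one, ← hbt, map_add, map_smul, bt.repr_self, ZeroMemClass.coe_zero,
      map_zero] at hc'
    intro i
    fin_cases i
    · simpa using DFunLike.congr_fun hc' 0
    · simpa [PowerSeries.X_ne_zero] using DFunLike.congr_fun hc' 1
  have hsp : ⊤ ≤ Submodule.span R (Set.range w) := by
    rintro ⟨z, hz⟩ -
    obtain ⟨a, c, hac⟩ := Submodule.mem_span_pair.mp (hS.le hz)
    rw [Submodule.mem_span_range_iff_exists_fun]
    exact ⟨![a, c], Subtype.ext (by simpa [Fin.sum_univ_two, w] using hac)⟩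
  refine ⟨Module.Basis.mk hli hsp, ?_, ?_⟩
  · rw [Module.Basis.mk_apply]; rfl
  · rw [Module.Basis.mk_apply]; rfl

/-- A subalgebra free of rank two is `R·1 + t^n St`. -/
theorem exists_eq (hbt : bt 0 = 1) (bS : Module.Basis (Fin 2) R S) :
    ∃ n : ℕ, Subalgebra.toSubmodule S =
      Submodule.span R {(1 : St)} ⊔ Ideal.span {(PowerSeries.X : R) ^ n} • (⊤ : Submodule R St) := by
  classical
  let I : Ideal R := (Subalgebra.toSubmodule S).map (bt.coord 1)
  have hI : I ≠ ⊥ := by
    intro h
    have h0 : ∀ s : S, (s : St) = bt.repr (s : St) 0 • (1 : St) := fun s => by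
      have : bt.repr (s : St) 1 = 0 := by
        have : bt.coord 1 (s : St) ∈ I := Submodule.mem_map_of_mem s.2
        rw [h] at this
        exact Ideal.mem_bot.mp this
      conv_lhs => rw [← bt.sum_repr (s : St), Fin.sum_univ_two, this, zero_smul, add_zero, hbt]
    have := Fintype.linearIndependent_iff.mp bS.linearIndependent
      ![bt.repr (bS 1 : St) 0, - bt.repr (bS 0 : St) 0] (by
        refine Subtype.ext ?_
        simp only [Fin.sum_univ_two, Matrix.cons_val_zero, Matrix.cons_val_one, AddMemClass.coe_add,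
          SetLike.val_smul, ZeroMemClass.coe_zero]
        have e0 := h0 (bS 0)
        have e1 := h0 (bS 1)
        generalize bt.repr (bS 0 : St) 0 = a0 at e0 ⊢
        generalize bt.repr (bS 1 : St) 0 = a1 at e1 ⊢
        rw [e0, e1, smul_smul, smul_smul, ← add_smul, show a1 * a0 + -a0 * a1 = 0 by ring, zero_smul]) 0
    have h1 : (bS 1 : St) = 0 := by rw [h0 (bS 1), show bt.repr (bS 1 : St) 0 = 0 from this, zero_smul]
    exact bS.ne_zero 1 (Subtype.ext h1)
  obtain ⟨n, hn⟩ := IsDiscreteValuationRing.ideal_eq_span_pow_irreducible hI PowerSeries.X_irreducible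
  refine ⟨n, ?_⟩
  rw [one_sup_pow_smul_eq bt hbt]
  have hmem : (PowerSeries.X : R) ^ n • bt 1 ∈ S := by
    obtain ⟨s, hs, hse⟩ : (PowerSeries.X : R) ^ n ∈ I := hn ▸ Ideal.mem_span_singleton_self _
    have : (PowerSeries.X : R) ^ n • bt 1 = s - bt.repr s 0 • (1 : St) := by
      conv_rhs => enter [1]; rw [← bt.sum_repr s, Fin.sum_univ_two, hbt, show bt.repr s 1 = _ from hse]
      abel
    rw [this]
    exact S.sub_mem hs (S.smul_mem S.one_mem _)
  refine le_antisymm (fun s hs => ?_) (Submodule.span_le.mpr ?_)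
  · have : bt.repr s 1 ∈ I := Submodule.mem_map_of_mem (f := bt.coord 1) hs
    rw [hn] at this
    obtain ⟨c, hc⟩ := Ideal.mem_span_singleton'.mp this
    refine Submodule.mem_span_pair.mpr ⟨bt.repr s 0, c, ?_⟩
    conv_rhs => rw [← bt.sum_repr s, Fin.sum_univ_two, hbt, ← hc, mul_smul]
  · rintro z (rfl | rfl)
    · exact S.one_mem
    · exact hmem

/-- The classification. -/
theorem classify (hbt : bt 0 = 1) (P Q : R) (hsq : bt 1 * bt 1 = P • (1 : St) + Q • bt 1) (a : ℕ)
    (hd : Ideal.span {Q ^ 2 + 4 * P} = Ideal.span {(PowerSeries.X : R) ^ a}) (b : ℕ) :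
    (∃ bS : Module.Basis (Fin 2) R S, Ideal.span {Algebra.discr R ⇑bS} = Ideal.span {(PowerSeries.X : R) ^ b}) ↔
      ∃ n : ℕ, b = 2 * n + a ∧ Subalgebra.toSubmodule S =
        Submodule.span R {(1 : St)} ⊔ Ideal.span {(PowerSeries.X : R) ^ n} • (⊤ : Submodule R St) := by
  have key : ∀ (n : ℕ) (c : Module.Basis (Fin 2) R S), c 0 = 1 → (c 1 : St) = (PowerSeries.X : R) ^ n • bt 1 →
      Ideal.span {Algebra.discr R ⇑c} = Ideal.span {(PowerSeries.X : R) ^ (2 * n + a)} := by
    intro n c hc0 hc1
    rw [discr_pair c hc0 ((PowerSeries.X : R) ^ (2 * n) * P) ((PowerSeries.X : R) ^ n * Q) (Subtype.ext (by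
      simp only [MulMemClass.coe_mul, AddMemClass.coe_add, SetLike.val_smul, OneMemClass.coe_one, hc1,
        smul_mul_smul_comm, hsq, smul_add, smul_smul, ← pow_add, two_mul]
      congr 2
      ring)), pow_add,
      show ((PowerSeries.X : R) ^ n * Q) ^ 2 + 4 * ((PowerSeries.X : R) ^ (2 * n) * P) =
        (PowerSeries.X : R) ^ (2 * n) * (Q ^ 2 + 4 * P) by ring,
      ← Ideal.span_singleton_mul_span_singleton, ← Ideal.span_singleton_mul_span_singleton, hd]
  constructor
  · rintro ⟨bS, hbS⟩
    obtain ⟨n, hn⟩ := exists_eq bt S hbt bS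
    obtain ⟨c, hc0, hc1⟩ := exists_basis bt S hbt n hn
    refine ⟨n, ?_, hn⟩
    rw [span_discr_eq bS c, key n c hc0 hc1, Ideal.span_singleton_eq_span_singleton] at hbS
    rcases Nat.lt_trichotomy b (2 * n + a) with h | h | h
    · exfalso
      have := hbS.dvd
      rw [pow_dvd_pow_iff PowerSeries.X_ne_zero PowerSeries.X_irreducible.not_isUnit] at this
      omega
    · exact h
    · exfalso
      have := hbS.symm.dvd
      rw [pow_dvd_pow_iff PowerSeries.X_ne_zero PowerSeries.X_irreducible.not_isUnit] at this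
      omega
  · rintro ⟨n, rfl, hn⟩
    obtain ⟨c, hc0, hc1⟩ := exists_basis bt S hbt n hn
    exact ⟨c, key n c hc0 hc1⟩

/-- A quadratic algebra with basis `1, y`, `y^2 = c`. -/
theorem nonempty_adjoinRoot {A : Type*} [CommRing A] [Algebra R A] (b : Module.Basis (Fin 2) R A) (h0 : b 0 = 1)
    (c : R) (h : b 1 * b 1 = c • (1 : A)) :
    Nonempty (A ≃ₐ[R] AdjoinRoot (Polynomial.X ^ 2 - Polynomial.C c : Polynomial R)) := by
  classical
  have hm : (Polynomial.X ^ 2 - Polynomial.C c : Polynomial R).Monic := monic_X_pow_sub_C c (by norm_num)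
  let φ : AdjoinRoot (Polynomial.X ^ 2 - Polynomial.C c : Polynomial R) →ₐ[R] A :=
    AdjoinRoot.liftAlgHom _ (Algebra.ofId R A) (b 1) (by
      rw [eval₂_sub, eval₂_X_pow, eval₂_C, pow_two, h, Algebra.smul_def, mul_one, sub_eq_zero]
      rfl)
  let pb := AdjoinRoot.powerBasis' hm
  have hdim : pb.dim = 2 := by simp [pb]
  let e := b.equiv (pb.basis.reindex (finCongr hdim)) (Equiv.refl _)
  have he : ∀ x, φ (e x) = x := by
    intro x
    have : φ.toLinearMap.comp e.toLinearMap = LinearMap.id := b.ext fun i => by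
      simp only [LinearMap.comp_apply, LinearEquiv.coe_coe, LinearMap.id_apply, AlgHom.toLinearMap_apply, e,
        Module.Basis.equiv_apply, Equiv.refl_apply, Module.Basis.reindex_apply, PowerBasis.coe_basis,
        map_pow]
      have : φ pb.gen = b 1 := by simp [φ, pb]
      rw [this]
      fin_cases i <;> simp [h0]
    exact LinearMap.congr_fun this x
  refine ⟨(AlgEquiv.ofBijective φ ⟨fun x y hxy => ?_, fun x => ⟨e x, he x⟩⟩).symm⟩
  obtain ⟨x, rfl⟩ := e.surjective x
  obtain ⟨y, rfl⟩ := e.surjective y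
  rw [he, he] at hxy
  rw [hxy]

end Groth.Agent.CrimpDouble
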